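/-
The derived group of SU(3,2) as the group of order 54 on three transpositions.
-/
import Cfsg.Agent.Lib.Spor.Hall54.Split
import Cfsg.Agent.Lib.Spor.Hall54.Target

set_option autoImplicit false

namespace CfsgLib.Invol.TriTwoThree

open Cfsg CfsgLib.Perm.PSUThreeTwo CfsgLib.Spor.TC
open CfsgLib.Spor.Hall54 (relsG coded witnesses coded_commutator witnesses_mem star_spec coded_length)
open scoped commutatorElement

/-- The coded generators. -/
def letter : ℕ → M3
  | 0 => ⟨⟨.o, .o, .i⟩, ⟨.o, .i, .o⟩, ⟨.i, .o, .o⟩⟩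
  | 1 => ⟨⟨.o, .o, .w⟩, ⟨.o, .i, .o⟩, ⟨.v, .o, .o⟩⟩
  | 2 => ⟨⟨.o, .i, .o⟩, ⟨.i, .o, .o⟩, ⟨.o, .o, .i⟩⟩
  | _ => scalar .i

/-- Value of a word. -/
def evCode (w : List ℕ) : M3 := w.foldr (fun x g => (letter x).mul g) (scalar .i)

/-- A word for each element. -/
def wordsList : List (List ℕ) := [[], [0], [1], [2], [0, 1], [0, 2], [1, 0], [1, 2], [2, 0], [2, 1], [0, 1, 0], [0, 1, 2], [0, 2,
  0], [0, 2, 1], [1, 0, 2], [1, 2, 0], [1, 2, 1], [2, 0, 1], [2, 1, 0], [0, 1, 0, 2], [0, 1, 2,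
  0], [0, 1, 2, 1], [0, 2, 0, 1], [0, 2, 1, 0], [1, 0, 2, 0], [1, 0, 2, 1], [1, 2, 0, 1], [1, 2,
  1, 0], [2, 0, 1, 0], [2, 0, 1, 2], [2, 1, 0, 2], [0, 1, 0, 2, 0], [0, 1, 0, 2, 1], [0, 1, 2, 0,
  1], [0, 1, 2, 1, 0], [0, 2, 0, 1, 0], [0, 2, 1, 0, 2], [1, 0, 2, 0, 1], [1, 0, 2, 1, 0], [1, 2,
  0, 1, 0], [1, 2, 0, 1, 2], [2, 0, 1, 0, 2], [2, 0, 1, 2, 0], [2, 0, 1, 2, 1], [2, 1, 0, 2, 0],
  [2, 1, 0, 2, 1], [0, 1, 0, 2, 1, 0], [0, 1, 2, 0, 1, 0], [0, 2, 1, 0, 2, 0], [1, 0, 2, 0, 1, 0],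
  [1, 2, 0, 1, 2, 0], [2, 0, 1, 0, 2, 0], [2, 0, 1, 2, 1, 0], [2, 1, 0, 2, 1, 0]]

theorem letter_coded : ((List.range 4).all fun x => coded.contains (letter x) &&
    (letter x).mul (letter x) == scalar .i) = true := by decide +kernel

theorem coded_words : (coded.all fun g => wordsList.any fun w => evCode w == g) = true := by decide +kernel

theorem letter_rels : (relsG.all fun r => evCode (powWord r.1 r.2) == scalar .i) = true := by decide +kernel

/-- A group with the presentation of order at most 54 and of order at least 54 is the derived group of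
`SU₃(2)`. -/
theorem nonempty_equiv_derived {F : Type} [Field F] [Fintype F] (hF : Fintype.card F = 4) {B : Type*} [Group B]
    [Finite B] {a b c : B} (ha : a * a = 1) (hb : b * b = 1) (hc : c * c = 1) (hab : (a * b) ^ 3 = 1)
    (hbc : (b * c) ^ 3 = 1) (hac : (a * c) ^ 3 = 1) (habcb : (a * (b * c * b)) ^ 3 = 1)
    (htop : Subgroup.closure ({a, b, c} : Set B) = ⊤) (hcard : 54 ≤ Nat.card B) :
    Nonempty (B ≃* ↥(commutator ↥(Cfsg.SU 3 F 2))) := by
  classical
  obtain ⟨h1, h2⟩ := CfsgLib.Spor.Hall54.CG.cosetCert.card_le_bot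
  haveI := Nat.finite_of_card_ne_zero h1
  -- the map onto `B`
  let g : ℕ → B := fun x => if x = 0 then a else if x = 1 then b else if x = 2 then c else 1
  have hs : Sat 3 relsG g := by
    refine ⟨fun x => ?_, fun x hx => ?_, fun r hr => ?_⟩
    · dsimp only [g]; split_ifs <;> first | assumption | exact one_mul 1
    · dsimp only [g]; rw [if_neg (by omega), if_neg (by omega), if_neg (by omega)]
    · simp only [relsG, List.mem_cons, List.not_mem_nil, or_false] at hr
      rcases hr with rfl | rfl | rfl | rfl <;> simp [ev, g, ← mul_assoc] <;>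
        first | exact hab | exact hbc | exact hac | exact (by simpa [← mul_assoc] using habcb)
  have hsur : Function.Surjective (presHom hs) := presHom_surjective hs (by
    rw [eq_top_iff, ← htop]
    refine Subgroup.closure_mono ?_
    rintro x (rfl | rfl | rfl)
    exacts [⟨0, by simp, by simp [g]⟩, ⟨1, by simp, by simp [g]⟩, ⟨2, by simp, by simp [g]⟩])
  have e1 := MulEquiv.ofBijective (presHom hs) (hsur.bijective_of_nat_card_le (h2.trans hcard))
  -- the map onto the derived group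
  obtain ⟨R⟩ := exists_root hF
  choose cd hc' hcA using R.exists_code hF
  have hcuniq : ∀ (A : SU 3 F 2) m, A.1.1 = R.mat m → cd A = m := fun A m h =>
    R.mat_injective ((hcA A).symm.trans h)
  have hcinj : Function.Injective cd := fun A A' h => Subtype.ext (Subtype.ext (by rw [hcA A, hcA A', h]))
  have hcmul : ∀ A A', cd (A * A') = (cd A).mul (cd A') := fun A A' => hcuniq _ _ (by
    rw [R.mat_mul, ← hcA A, ← hcA A']; rfl)
  have hsurj : ∀ m ∈ elems, ∃ A : SU 3 F 2, cd A = m := fun m hm => by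
    obtain ⟨A, hA⟩ := R.mem_su m hm
    exact ⟨A, hcuniq A m hA⟩
  have hone : cd 1 = scalar .i := hcuniq 1 _ (by
    ext i j
    fin_cases i <;> fin_cases j <;> simp [Root.mat, Root.vec, Root.ev, scalar])
  have hlift : ∀ m ∈ coded, ∃ A : commutator ↥(Cfsg.SU 3 F 2), cd A.1 = m := by
    intro m hm
    have hmem : ∀ u ∈ witnesses, ∃ A : SU 3 F 2, cd A = u ∧ cd A⁻¹ = u.star := by
      intro u hu
      obtain ⟨A, hA⟩ := hsurj u (by simpa using List.all_eq_true.1 witnesses_mem u hu)
      have h := List.all_eq_true.1 star_spec u hu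
      simp only [Bool.and_eq_true, beq_iff_eq, List.contains_iff_mem] at h
      obtain ⟨A', hA'⟩ := hsurj u.star h.2
      have : A' * A = 1 := hcinj (by rw [hcmul, hA, hA', h.1, hone])
      exact ⟨A, hA, by rw [inv_eq_of_mul_eq_one_left this, hA']⟩
    have h := List.all_eq_true.1 coded_commutator m hm
    simp only [List.any_eq_true, beq_iff_eq] at h
    obtain ⟨s, hs, t, ht, hst⟩ := h
    obtain ⟨S, hS, hS'⟩ := hmem s hs
    obtain ⟨T, hT, hT'⟩ := hmem t ht
    refine ⟨⟨⁅S, T⁆, Subgroup.commutator_mem_commutator (Subgroup.mem_top _) (Subgroup.mem_top _)⟩, ?_⟩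
    show cd ⁅S, T⁆ = m
    rw [← hst, commutatorElement_def, mul_assoc (S * T), hcmul, hcmul, hcmul, hS, hT, hS', hT']
  have hlet : ∀ x, x < 4 → letter x ∈ coded ∧ (letter x).mul (letter x) = scalar .i := fun x hx => by
    have h := List.all_eq_true.1 letter_coded x (List.mem_range.2 hx)
    simp only [Bool.and_eq_true, beq_iff_eq, List.contains_iff_mem] at h
    exact h
  have hL : ∀ x, ∃ A : commutator ↥(Cfsg.SU 3 F 2), cd A.1 = letter x ∧ A * A = 1 ∧ (3 ≤ x → A = 1) := by
    intro x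
    by_cases hx : x < 3
    · obtain ⟨A, hA⟩ := hlift _ (hlet x (by omega)).1
      refine ⟨A, hA, Subtype.ext (hcinj ?_), fun h => absurd hx (by omega)⟩
      show cd (A.1 * A.1) = cd 1
      rw [hcmul, hA, (hlet x (by omega)).2, hone]
    · refine ⟨1, ?_, one_mul 1, fun _ => rfl⟩
      obtain ⟨y, rfl⟩ : ∃ y, x = y + 3 := ⟨x - 3, by omega⟩
      exact hone
  choose L hLc hLsq hLout using hL
  have hev : ∀ w : List ℕ, cd (ev L w).1 = evCode w := fun w => by
    induction w with
    | nil => exact hone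
    | cons x w ih =>
      show cd ((L x).1 * (ev L w).1) = (letter x).mul (evCode w)
      rw [hcmul, hLc, ih]
  have hs' : Sat 3 relsG L := by
    refine ⟨hLsq, hLout, fun r hr => ?_⟩
    rw [← ev_powWord]
    refine Subtype.ext (hcinj ?_)
    have h := List.all_eq_true.1 letter_rels r hr
    rw [beq_iff_eq] at h
    rw [hev, h]
    exact hone.symm
  have hcode : ∀ m ∈ coded, ∃ p, cd (presHom hs' p).1 = m := fun m hm => by
    have h := List.all_eq_true.1 coded_words m hm
    simp only [List.any_eq_true, beq_iff_eq] at h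
    obtain ⟨w, -, hw⟩ := h
    refine ⟨ev (presGen 3 relsG) w, ?_⟩
    rw [map_ev]
    simp only [presHom_gen]
    rw [hev, hw]
  obtain ⟨hder, -⟩ := CfsgLib.Spor.Hall54.derived hF
  have hge : 54 ≤ Nat.card (presHom hs').range := by
    have hnd : coded.Nodup := elems_nodup.filter _
    rw [← coded_length, ← List.toFinset_card_of_nodup hnd, ← Nat.card_eq_finsetCard]
    have : ∀ m : {m // m ∈ coded.toFinset}, ∃ q : (presHom hs').range, cd q.1.1 = m.1 := fun m => by
      obtain ⟨p, hp⟩ := hcode m.1 (List.mem_toFinset.1 m.2)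
      exact ⟨⟨_, p, rfl⟩, hp⟩
    choose q hq using this
    exact Nat.card_le_card_of_injective q fun m m' e => Subtype.ext (by rw [← hq m, ← hq m', e])
  have hsur' : Function.Surjective (presHom hs') := by
    rw [← MonoidHom.range_eq_top]
    exact Subgroup.eq_top_of_le_card _ (by rw [hder]; exact hge)
  have e2 := MulEquiv.ofBijective (presHom hs') (hsur'.bijective_of_nat_card_le (h2.trans hder.ge))
  exact ⟨e1.symm.trans e2⟩

end CfsgLib.Invol.TriTwoThree
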