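/-
Groups with a normal 3-subgroup of index two, generated by inverted elements, acting on an
elementary abelian 2-group as transpositions of a 3-transposition group do.
-/
import Cfsg.Agent.Lib.Spor.Tri.SmallSymmetric
import Mathlib

set_option autoImplicit false

namespace CfsgLib.Invol.TriTwoThree

/-- The averaging identity for two commuting operators of order three on a group of exponent two:
a multiplicatively closed property holding on the fixed points of the four lines holds everywhere. -/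
theorem nine {K : Type*} [CommGroup K] (h2 : ∀ a : K, a * a = 1) (X U : K →* K)
    (hc : ∀ v, X (U v) = U (X v)) (hX : ∀ v, X (X (X v)) = v) (hU : ∀ v, U (U (U v)) = v)
    (Q : K → Prop) (hQ : ∀ a b, Q a → Q b → Q (a * b)) (q1 : ∀ v, X v = v → Q v) (q2 : ∀ v, U v = v → Q v)
    (q3 : ∀ v, U (U (X v)) = v → Q v) (q4 : ∀ v, U (X v) = v → Q v) (w : K) : Q w := by
  have h2' : ∀ a b : K, a * (a * b) = b := fun a b => by rw [← mul_assoc, h2, one_mul]
  have e : w = (w * X w * X (X w)) * ((w * U w * U (U w)) * ((w * U (U (X w)) * U (X (X w))) *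
      ((w * U (X w) * U (U (X (X w)))) *
      (w * X w * X (X w) * U w * U (X w) * U (X (X w)) * U (U w) * U (U (X w)) * U (U (X (X w))))))) := by
    simp [mul_comm, mul_left_comm, h2, h2']
  rw [e]
  refine hQ _ _ (q1 _ ?_) (hQ _ _ (q2 _ ?_) (hQ _ _ (q3 _ ?_) (hQ _ _ (q4 _ ?_) (q1 _ ?_))))
  all_goals simp [map_mul, hc, hX, hU, mul_comm, mul_left_comm]

theorem eq_of_cube {G : Type*} [Group G] {u : G} (h : u ^ 3 = 1) {x : G} (hx : x ∈ Subgroup.zpowers u) :
    x = 1 ∨ x = u ∨ x = u⁻¹ := by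
  obtain ⟨n, rfl⟩ := Subgroup.mem_zpowers_iff.1 hx
  have h' : u ^ (3 : ℤ) = 1 := by exact_mod_cast h
  rcases (show n % 3 = 0 ∨ n % 3 = 1 ∨ n % 3 = 2 by omega) with e | e | e
  · left; rw [zpow_eq_zpow_emod n h', e, zpow_zero]
  · right; left; rw [zpow_eq_zpow_emod n h', e, zpow_one]
  · right; right
    rw [zpow_eq_zpow_emod n h', e]
    refine (inv_eq_of_mul_eq_one_right ?_).symm
    rw [show (2 : ℤ) = ((2 : ℕ) : ℤ) from rfl, zpow_natCast, ← pow_succ', h]

variable {B : Type*} [Group B] {W : Type*} [CommGroup W]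

/-- The data: `P` is a 3-group of index two, `d` an involution outside it. -/
structure Setup (P : Subgroup B) (ρ : B →* MulAut W) (d : B) : Prop where
  sq : d * d = 1
  dP : d ∉ P
  cover : ∀ x : B, x ∈ P ∨ x * d ∈ P
  isP3 : IsPGroup 3 P
  ne_bot : P ≠ ⊥
  gen : P ≤ Subgroup.closure {x | x ∈ P ∧ MulAut.conj d x = x⁻¹}
  cube : ∀ e f : B, e ∉ P → f ∉ P → e * e = 1 → f * f = 1 → (e * f) ^ 3 = 1
  exp_two : ∀ w : W, w * w = 1
  faith : ∀ p ∈ P, ρ p = 1 → p = 1
  key : ∀ e : B, e * e = 1 → e ∉ P → ∀ u ∈ P, u ≠ 1 → e * u * e = u⁻¹ → ∀ w, ρ u w = w → ρ e w = w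

namespace Setup

variable {P : Subgroup B} {ρ : B →* MulAut W} {d : B} (h : Setup P ρ d)

theorem app_mul (a b : B) (w : W) : ρ (a * b) w = ρ a (ρ b w) := by rw [map_mul]; rfl

theorem app_one (w : W) : ρ 1 w = w := by rw [map_one]; rfl

/-- Inverted elements. -/
def Inverted (P : Subgroup B) (d x : B) : Prop := x ∈ P ∧ MulAut.conj d x = x⁻¹

/-- Central elements of `P`. -/
def Central (P : Subgroup B) (z : B) : Prop := z ∈ P ∧ ∀ p ∈ P, p * z = z * p

/-- Elements central in `P` modulo the centre. -/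
def SecondCentral (P : Subgroup B) (a : B) : Prop := a ∈ P ∧ ∀ p ∈ P, Central P (p * a * p⁻¹ * a⁻¹)

include h

theorem d_inv : d⁻¹ = d := inv_eq_of_mul_eq_one_right h.sq

theorem conj_eq (x : B) : MulAut.conj d x = d * x * d := by rw [MulAut.conj_apply, h.d_inv]

theorem conj_conj (x : B) : MulAut.conj d (MulAut.conj d x) = x := by
  rw [h.conj_eq, h.conj_eq]
  calc d * (d * x * d) * d = (d * d) * x * (d * d) := by group
    _ = x := by rw [h.sq, one_mul, mul_one]

theorem index_two : P.index = 2 := by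
  rw [Subgroup.index_eq_two_iff]
  refine ⟨d, fun x => ?_⟩
  rcases h.cover x with hx | hx
  · exact Or.inr ⟨hx, fun hxd => h.dP ((P.mul_mem_cancel_left hx).1 hxd)⟩
  · exact Or.inl ⟨hx, fun hx' => h.dP ((P.mul_mem_cancel_left hx').1 hx)⟩

theorem normal : P.Normal := Subgroup.normal_of_index_eq_two h.index_two

theorem conj_mem {x : B} (hx : x ∈ P) : MulAut.conj d x ∈ P := by
  rw [MulAut.conj_apply]; exact h.normal.conj_mem x hx d

theorem mul_d {x : B} (hx : Inverted P d x) : x * d * (x * d) = 1 ∧ x * d ∉ P := by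
  refine ⟨?_, fun hc => h.dP ((P.mul_mem_cancel_left hx.1).1 hc)⟩
  have := hx.2
  rw [h.conj_eq] at this
  calc x * d * (x * d) = x * (d * x * d) := by group
    _ = 1 := by rw [this, mul_inv_cancel]

theorem inverted_cube {x : B} (hx : Inverted P d x) : x ^ 3 = 1 := by
  have := h.cube _ _ (h.mul_d hx).2 h.dP (h.mul_d hx).1 h.sq
  rwa [mul_assoc, h.sq, mul_one] at this

theorem app_cube {x : B} (hx : x ^ 3 = 1) (w : W) : ρ x (ρ x (ρ x w)) = w := by
  rw [← app_mul, ← app_mul, show x * x * x = x ^ 3 by rw [pow_succ, pow_two], hx, app_one]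

/-- An inverted element fixed on `v` by conjugation fixes `v`. -/
theorem line {x t : B} (hx : Inverted P d x) (ht : Inverted P d t) (ht1 : t ≠ 1) {v : W} (hv : ρ t v = v)
    (hv' : ρ (x * t * (x * x)) v = v) : ρ x v = v := by
  have hxi : x⁻¹ = x * x := inv_eq_of_mul_eq_one_right (by
    rw [← mul_assoc, show x * x * x = x ^ 3 by rw [pow_succ, pow_two], h.inverted_cube hx])
  have hd : ρ d v = v := h.key d h.sq h.dP t ht.1 ht1 (by rw [← h.conj_eq]; exact ht.2) v hv
  have hinv : x * d * x⁻¹ = x * x * d := by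
    have := hx.2
    rw [h.conj_eq] at this
    calc x * d * x⁻¹ = x * d * (d * x * d) := by rw [this]
      _ = x * (d * d) * x * d := by group
      _ = x * x * d := by rw [h.sq, mul_one]
  have he : ρ (x * d * x⁻¹) v = v := by
    refine h.key _ ?_ ?_ (x * t * x⁻¹) ?_ ?_ ?_ v (by rw [hxi]; exact hv')
    · calc x * d * x⁻¹ * (x * d * x⁻¹) = x * (d * d) * x⁻¹ := by group
        _ = 1 := by rw [h.sq, mul_one, mul_inv_cancel]
    · intro hc
      refine h.dP ?_
      have := h.normal.conj_mem _ hc x⁻¹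
      convert this using 1
      group
    · exact h.normal.conj_mem _ ht.1 x
    · intro hc
      exact ht1 (by rw [show t = x⁻¹ * (x * t * x⁻¹) * x by group, hc]; group)
    · have := ht.2
      rw [h.conj_eq] at this
      calc x * d * x⁻¹ * (x * t * x⁻¹) * (x * d * x⁻¹) = x * (d * t * d) * x⁻¹ := by group
        _ = (x * t * x⁻¹)⁻¹ := by rw [this]; group
  rw [hinv, app_mul, hd, app_mul] at he
  have := congrArg (ρ x) he
  rw [app_cube h (h.inverted_cube hx)] at this
  exact this.symm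

/-- Two inverted elements commuting on an invariant subgroup: the first fixes it. -/
theorem pair {x u : B} (hx : Inverted P d x) (hu : Inverted P d u) (hu1 : u ≠ 1)
    (hxu : x ∉ Subgroup.zpowers u) (K : Subgroup W) (hKx : ∀ w ∈ K, ρ x w ∈ K) (hKu : ∀ w ∈ K, ρ u w ∈ K)
    (hcomm : ∀ w ∈ K, ρ x (ρ u w) = ρ u (ρ x w)) : ∀ w ∈ K, ρ x w = w := by
  let X : K →* K := MonoidHom.mk' (fun v => ⟨ρ x v, hKx v v.2⟩) fun a b => Subtype.ext (map_mul (ρ x) a.1 b.1)
  let U : K →* K := MonoidHom.mk' (fun v => ⟨ρ u v, hKu v v.2⟩) fun a b => Subtype.ext (map_mul (ρ u) a.1 b.1)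
  have Xv : ∀ v : K, ((X v : K) : W) = ρ x v := fun v => rfl
  have Uv : ∀ v : K, ((U v : K) : W) = ρ u v := fun v => rfl
  have hc : ∀ v, X (U v) = U (X v) := fun v => Subtype.ext (hcomm v v.2)
  have hX : ∀ v, X (X (X v)) = v := fun v => Subtype.ext (h.app_cube (h.inverted_cube hx) v.1)
  have hU : ∀ v, U (U (U v)) = v := fun v => Subtype.ext (h.app_cube (h.inverted_cube hu) v.1)
  have hu3 := h.inverted_cube hu
  have t1 : Inverted P d (u * x * u) := ⟨mul_mem (mul_mem hu.1 hx.1) hu.1, by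
    rw [map_mul, map_mul, hu.2, hx.2]; group⟩
  have t2 : Inverted P d ((u * u) * x * (u * u)) := ⟨mul_mem (mul_mem (mul_mem hu.1 hu.1) hx.1) (mul_mem hu.1 hu.1), by
    rw [map_mul, map_mul, map_mul, hu.2, hx.2]; group⟩
  have huz := Subgroup.mem_zpowers u
  have t1' : u * x * u ≠ 1 := fun e => hxu (by
    rw [show x = u⁻¹ * (u * x * u) * u⁻¹ by group, e]
    exact mul_mem (mul_mem (inv_mem huz) (one_mem _)) (inv_mem huz))
  have t2' : (u * u) * x * (u * u) ≠ 1 := fun e => hxu (by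
    rw [show x = (u * u)⁻¹ * ((u * u) * x * (u * u)) * (u * u)⁻¹ by group, e]
    exact mul_mem (mul_mem (inv_mem (mul_mem huz huz)) (one_mem _)) (inv_mem (mul_mem huz huz)))
  intro w hw
  refine congrArg Subtype.val (nine (fun a => Subtype.ext (h.exp_two a.1)) X U hc hX hU (fun v => X v = v)
    (fun a b ha hb => by rw [map_mul, ha, hb]) (fun _ e => e) (fun v e => Subtype.ext ?_)
    (fun v e => Subtype.ext ?_) (fun v e => Subtype.ext ?_) ⟨w, hw⟩)
  · refine h.line hx hu hu1 (congrArg Subtype.val e) ?_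
    simp only [app_mul, ← Xv, ← Uv]
    exact congrArg Subtype.val (show X (U (X (X v))) = v by simp [hc, hX, e])
  · refine h.line hx t1 t1' ?_ ?_
    · simp only [app_mul, ← Xv, ← Uv]
      exact congrArg Subtype.val (show U (X (U v)) = v by simp [hc, e])
    · simp only [app_mul, ← Xv, ← Uv]
      exact congrArg Subtype.val (show X (U (X (U (X (X v))))) = v by simp [hc, hX, e])
  · refine h.line hx t2 t2' ?_ ?_
    · simp only [app_mul, ← Xv, ← Uv]
      exact congrArg Subtype.val (show U (U (X (U (U v)))) = v by simp [hc, hU, e])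
    · simp only [app_mul, ← Xv, ← Uv]
      exact congrArg Subtype.val (show X (U (U (X (U (U (X (X v))))))) = v by simp [hc, hX, hU, e])

/-- Commuting inverted elements lie in one subgroup of order three. -/
theorem commuting {x u : B} (hx : Inverted P d x) (hu : Inverted P d u) (hu1 : u ≠ 1) (hc : x * u = u * x) :
    x ∈ Subgroup.zpowers u := by
  by_contra hxu
  have hfix := h.pair hx hu hu1 hxu ⊤ (fun _ _ => trivial) (fun _ _ => trivial)
    (fun w _ => by rw [← app_mul, ← app_mul, hc])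
  exact hxu ((h.faith x hx.1 (MulEquiv.ext fun w => hfix w trivial)) ▸ one_mem _)

theorem gen_le {S : Subgroup B} (hS : ∀ x, Inverted P d x → x ∈ S) : P ≤ S :=
  h.gen.trans ((Subgroup.closure_le _).2 hS)

theorem commute_of_inverted {a : B} (ha : ∀ x, Inverted P d x → x * a = a * x) : ∀ p ∈ P, p * a = a * p :=
  fun p hp => ((Subgroup.mem_centralizer_iff.1 (h.gen_le (S := Subgroup.centralizer {a}) (fun x hx =>
    Subgroup.mem_centralizer_iff.2 fun y hy => by rw [Set.mem_singleton_iff.1 hy]; exact (ha x hx).symm) hp))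
      a rfl).symm

theorem inverted_conj {a : B} (ha : a ∈ P) : Inverted P d (a⁻¹ * MulAut.conj d a) := by
  refine ⟨mul_mem (inv_mem ha) (h.conj_mem ha), ?_⟩
  rw [map_mul, map_inv, h.conj_conj, mul_inv_rev, inv_inv]

theorem conj_central {z : B} (hz : Central P z) : Central P (MulAut.conj d z) := by
  refine ⟨h.conj_mem hz.1, fun p hp => ?_⟩
  have := congrArg (MulAut.conj d) (hz.2 _ (h.conj_mem hp))
  rwa [map_mul, map_mul, h.conj_conj] at this

theorem conj_secondCentral {a : B} (ha : SecondCentral P a) : SecondCentral P (MulAut.conj d a) := by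
  refine ⟨h.conj_mem ha.1, fun p hp => ?_⟩
  have := h.conj_central (ha.2 _ (h.conj_mem hp))
  rwa [map_mul, map_mul, map_mul, map_inv, map_inv, h.conj_conj] at this

end Setup

open Setup

variable {P : Subgroup B}

theorem central_mul {a b : B} (ha : Central P a) (hb : Central P b) : Central P (a * b) :=
  ⟨mul_mem ha.1 hb.1, fun p hp => by rw [← mul_assoc, ha.2 p hp, mul_assoc, hb.2 p hp, ← mul_assoc]⟩

theorem central_inv {a : B} (ha : Central P a) : Central P a⁻¹ :=
  ⟨inv_mem ha.1, fun p hp => (Commute.inv_right (show Commute p a from ha.2 p hp)).eq⟩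

theorem secondCentral_mul {a b : B} (ha : SecondCentral P a) (hb : SecondCentral P b) :
    SecondCentral P (a * b) := by
  refine ⟨mul_mem ha.1 hb.1, fun p hp => ?_⟩
  have e : p * (a * b) * p⁻¹ * (a * b)⁻¹ = p * a * p⁻¹ * a⁻¹ * (p * b * p⁻¹ * b⁻¹) := by
    have := (hb.2 p hp).2 a ha.1
    calc p * (a * b) * p⁻¹ * (a * b)⁻¹ = p * a * p⁻¹ * a⁻¹ * (a * (p * b * p⁻¹ * b⁻¹) * a⁻¹) := by group
      _ = _ := by rw [this, mul_assoc (p * b * p⁻¹ * b⁻¹), mul_inv_cancel, mul_one]
  rw [e]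
  exact central_mul (ha.2 p hp) (hb.2 p hp)

theorem secondCentral_inv {a : B} (ha : SecondCentral P a) : SecondCentral P a⁻¹ := by
  refine ⟨inv_mem ha.1, fun p hp => ?_⟩
  have hc := ha.2 p hp
  have e : p * a⁻¹ * p⁻¹ * (a⁻¹)⁻¹ = (p * a * p⁻¹ * a⁻¹)⁻¹ := by
    have := (central_inv hc).2 a⁻¹ (inv_mem ha.1)
    calc p * a⁻¹ * p⁻¹ * (a⁻¹)⁻¹ = a⁻¹ * (p * a * p⁻¹ * a⁻¹)⁻¹ * a := by group
      _ = _ := by rw [this, mul_assoc, inv_mul_cancel, mul_one]
  rw [e]
  exact central_inv hc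

/-- A 3-group that is not commutative has an element outside the centre that is central modulo it. -/
theorem exists_secondCentral [Finite B] (hP : IsPGroup 3 P) {x : B} (hx : x ∈ P) (hx' : ¬ Central P x) :
    ∃ w, SecondCentral P w ∧ ¬ Central P w := by
  haveI : Fact (Nat.Prime 3) := ⟨Nat.prime_three⟩
  have hne : (⟨x, hx⟩ : P) ∉ Subgroup.center P := fun hc => hx' ⟨hx, fun p hp =>
    congrArg Subtype.val (Subgroup.mem_center_iff.1 hc ⟨p, hp⟩)⟩
  haveI : Nontrivial (P ⧸ Subgroup.center P) :=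
    ⟨⟨QuotientGroup.mk ⟨x, hx⟩, 1, fun e => hne ((QuotientGroup.eq_one_iff _).1 e)⟩⟩
  haveI := (hP.to_quotient (Subgroup.center P)).center_nontrivial
  obtain ⟨⟨q, hq⟩, hq1⟩ := exists_ne (1 : Subgroup.center (P ⧸ Subgroup.center P))
  obtain ⟨w, rfl⟩ := QuotientGroup.mk_surjective q
  refine ⟨w, ⟨w.2, fun p hp => ?_⟩, fun hc => hq1 (Subtype.ext ((QuotientGroup.eq_one_iff w).2
    (Subgroup.mem_center_iff.2 fun g => Subtype.ext (hc.2 g g.2))))⟩
  have hm : (⟨p, hp⟩ : P) * w * (⟨p, hp⟩ : P)⁻¹ * w⁻¹ ∈ Subgroup.center P := by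
    rw [← QuotientGroup.eq_one_iff]
    simp only [QuotientGroup.mk_mul, QuotientGroup.mk_inv]
    rw [Subgroup.mem_center_iff.1 hq, mul_inv_cancel_right, mul_inv_cancel]
  exact ⟨mul_mem (mul_mem (mul_mem hp w.2) (inv_mem hp)) (inv_mem w.2), fun r hr =>
    congrArg Subtype.val (Subgroup.mem_center_iff.1 hm ⟨r, hr⟩)⟩

variable {ρ : B →* MulAut W} {d : B}

/-- If some nontrivial inverted element is central, `P` is cyclic of order three. -/
theorem symmetric_case (h : Setup P ρ d) {u : B} (hu : Inverted P d u) (hu1 : u ≠ 1) (hz : Central P u) :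
    Nonempty (B ≃* Equiv.Perm (Fin 3)) := by
  have hP : P ≤ Subgroup.zpowers u := h.gen_le fun x hx => h.commuting hx hu hu1 (hz.2 x hx.1)
  obtain ⟨hb, -⟩ := h.mul_d hu
  have hu2 := hu.2
  rw [h.conj_eq] at hu2
  have hdu : d * u = u⁻¹ * d := by
    rw [← hu2, mul_assoc, h.sq, mul_one]
  have hne : d ≠ u * d := fun e => hu1 (by
    have := e.symm; rwa [mul_eq_right] at this)
  have hnc : ¬ Commute d (u * d) := fun e => by
    have e' : d * (u * d) = u * d * d := e
    rw [← mul_assoc, hu2, mul_assoc, h.sq, mul_one] at e'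
    have h3 := h.inverted_cube hu
    rw [pow_succ, pow_two] at h3
    have : u * u = 1 := by
      calc u * u = u⁻¹ * u := by rw [e']
        _ = 1 := inv_mul_cancel u
    rw [this, one_mul] at h3
    exact hu1 h3
  obtain ⟨e⟩ := CfsgLib.Spor.Tri.nonempty_equiv_perm_three h.sq hb (by
    have h3 := h.inverted_cube hu
    calc u * d * d * (u * d) = u * (d * d) * u * d := by group
      _ = u⁻¹ * d := by
        rw [h.sq, mul_one, show u * u = u⁻¹ from (inv_eq_of_mul_eq_one_right (by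
          rw [← mul_assoc, ← pow_two, ← pow_succ, h3])).symm]
      _ = d * u * d * d := by rw [hu2]
      _ = d * (u * d) * d := by group) hne hnc
  have htop : Subgroup.closure ({d, u * d} : Set B) = ⊤ := by
    rw [eq_top_iff]
    intro x _
    have hd : d ∈ Subgroup.closure ({d, u * d} : Set B) := Subgroup.subset_closure (by simp)
    have hud : u * d ∈ Subgroup.closure ({d, u * d} : Set B) := Subgroup.subset_closure (by simp)
    have hu' : u ∈ Subgroup.closure ({d, u * d} : Set B) := by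
      have := mul_mem hud hd
      rwa [mul_assoc, h.sq, mul_one] at this
    have hP' : P ≤ Subgroup.closure ({d, u * d} : Set B) := hP.trans (Subgroup.zpowers_le.2 hu')
    rcases h.cover x with hx | hx
    · exact hP' hx
    · have := mul_mem (hP' hx) hd
      rwa [mul_assoc, h.sq, mul_one] at this
  exact ⟨(Subgroup.topEquiv.symm.trans (MulEquiv.subgroupCongr htop.symm)).trans e⟩

/-- Otherwise there are three involutions generating a group of order at least 54. -/
theorem hall_case [Finite B] (h : Setup P ρ d) (hnz : ∀ u, Inverted P d u → Central P u → u = 1) :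
    ∃ a b c : B, a * a = 1 ∧ b * b = 1 ∧ c * c = 1 ∧ (a * b) ^ 3 = 1 ∧ (b * c) ^ 3 = 1 ∧ (a * c) ^ 3 = 1 ∧
      (a * (b * c * b)) ^ 3 = 1 ∧ Subgroup.closure ({a, b, c} : Set B) = ⊤ ∧ 54 ≤ Nat.card B := by
  haveI : Fact (Nat.Prime 3) := ⟨Nat.prime_three⟩
  have hdz : ∀ z, Central P z → MulAut.conj d z = z := fun z hz => by
    have := hnz _ (h.inverted_conj hz.1) (central_mul (central_inv hz) (h.conj_central hz))
    rwa [inv_mul_eq_one, eq_comm] at this
  obtain ⟨x₁, hx₁, hx₁1⟩ : ∃ x, Inverted P d x ∧ x ≠ 1 := by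
    by_contra hc
    push Not at hc
    exact h.ne_bot (le_bot_iff.1 (h.gen_le fun x hx => (hc x hx) ▸ one_mem _))
  obtain ⟨w, hw, hwc⟩ := exists_secondCentral h.isP3 hx₁.1 fun hc => hx₁1 (hnz _ hx₁ hc)
  obtain ⟨u, hu_def⟩ : ∃ u, u = w⁻¹ * MulAut.conj d w := ⟨_, rfl⟩
  have huI : Inverted P d u := hu_def ▸ h.inverted_conj hw.1
  have hu2 : SecondCentral P u := hu_def ▸ secondCentral_mul (secondCentral_inv hw) (h.conj_secondCentral hw)
  have hu1 : u ≠ 1 := by
    intro hu1
    rw [hu_def, inv_mul_eq_one] at hu1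
    refine hwc ⟨hw.1, h.commute_of_inverted fun x hx => ?_⟩
    have h1 := hdz _ (hw.2 x hx.1)
    rw [map_mul, map_mul, map_mul, map_inv, map_inv, hx.2, inv_inv, ← hu1] at h1
    have hx' : x⁻¹ * w * x = x * w * x⁻¹ := mul_right_cancel h1
    have h2 : Commute (x * x) w := by
      show x * x * w = w * (x * x)
      calc x * x * w = x * (x * w * x⁻¹) * x := by group
        _ = x * (x⁻¹ * w * x) * x := by rw [hx']
        _ = w * (x * x) := by group
    have h3 := h.inverted_cube hx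
    have : x = (x * x) * (x * x) := by
      rw [show (x * x) * (x * x) = x ^ 3 * x by rw [pow_succ, pow_two]; group, h3, one_mul]
    rw [this]
    exact (h2.mul_left h2).eq
  have hu3 := h.inverted_cube huI
  obtain ⟨φ, hφ⟩ : ∃ φ : B → B, ∀ p, φ p = p * u * p⁻¹ * u⁻¹ := ⟨_, fun _ => rfl⟩
  have φdef : ∀ p, p * u * p⁻¹ = φ p * u := fun p => by simp only [hφ]; group
  have φZ : ∀ p ∈ P, Central P (φ p) := fun p hp => (hφ p).symm ▸ hu2.2 p hp
  have φmul : ∀ p ∈ P, ∀ q ∈ P, φ (p * q) = φ p * φ q := fun p hp q hq => by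
    have hc : p * φ q * p⁻¹ = φ q := by rw [(φZ q hq).2 p hp, mul_inv_cancel_right]
    calc φ (p * q) = (p * φ q * p⁻¹) * (p * u * p⁻¹ * u⁻¹) := by simp only [hφ]; group
      _ = φ q * φ p := by rw [hc, ← hφ p]
      _ = φ p * φ q := ((φZ q hq).2 _ (φZ p hp).1).symm
  have φone : φ 1 = 1 := by simp only [hφ]; group
  have φinv : ∀ p ∈ P, φ p⁻¹ = (φ p)⁻¹ := fun p hp =>
    (inv_eq_of_mul_eq_one_right (by rw [← φmul p hp _ (inv_mem hp), mul_inv_cancel, φone])).symm
  have φcube : ∀ p ∈ P, φ p ^ 3 = 1 := fun p hp => by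
    have h1 : p * u ^ 3 * p⁻¹ = φ p ^ 3 * u ^ 3 := by
      rw [← Commute.mul_pow ((φZ p hp).2 u huI.1).symm, ← φdef, conj_pow]
    rwa [hu3, mul_one, mul_one, mul_inv_cancel, eq_comm] at h1
  have φconj : ∀ p ∈ P, φ (MulAut.conj d p) = (φ p)⁻¹ := fun p hp => by
    have h1 := hdz _ (central_inv (φZ p hp))
    have h2 : (φ p)⁻¹ = p * u⁻¹ * p⁻¹ * u := by
      have := (central_inv (φZ p hp)).2 u⁻¹ (inv_mem huI.1)
      calc (φ p)⁻¹ = (φ p)⁻¹ * u⁻¹ * u := by group
        _ = u⁻¹ * (φ p)⁻¹ * u := by rw [this]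
        _ = (φ p * u)⁻¹ * u := by group
        _ = (p * u * p⁻¹)⁻¹ * u := by rw [φdef]
        _ = _ := by group
    rw [← h1, h2]
    simp only [hφ, map_mul, map_inv, huI.2, inv_inv]
  have φeq : ∀ p, φ p = 1 → p * u = u * p := fun p e => by
    have := φdef p
    rwa [e, one_mul, mul_inv_eq_iff_eq_mul] at this
  -- every value is attained at an inverted element
  have φval : ∀ p ∈ P, ∃ x, Inverted P d x ∧ φ x = φ p := fun p hp => by
    refine ⟨MulAut.conj d p * p⁻¹, ⟨mul_mem (h.conj_mem hp) (inv_mem hp), ?_⟩, ?_⟩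
    · rw [map_mul, map_inv, h.conj_conj, mul_inv_rev, inv_inv]
    · rw [φmul _ (h.conj_mem hp) _ (inv_mem hp), φconj p hp, φinv p hp]
      have := φcube p hp
      rw [pow_succ', pow_two] at this
      rw [← mul_inv_rev]
      exact inv_eq_of_mul_eq_one_left this
  -- `u` fixes the fixed points of every nontrivial value
  have hfix : ∀ p ∈ P, φ p ≠ 1 → ∀ v, ρ (φ p) v = v → ρ u v = v := by
    intro p hp hne v hv
    obtain ⟨x, hx, hxp⟩ := φval p hp
    rw [← hxp] at hne hv
    have hxu : x * u ≠ u * x := fun e => hne (by simp only [hφ]; rw [e]; group)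
    have hx1 : x ≠ 1 := fun e => hxu (by rw [e, one_mul, mul_one])
    have hux : u ∉ Subgroup.zpowers x := fun hm => hxu (by
      obtain ⟨n, hn⟩ := Subgroup.mem_zpowers_iff.1 hm
      rw [← hn]; exact (Commute.self_zpow x n).eq)
    have hcz := φZ x hx.1
    let K : Subgroup W :=
      { carrier := {v | ρ (φ x) v = v}
        mul_mem' := fun {a b} ha hb => by
          simp only [Set.mem_setOf_eq] at ha hb ⊢
          rw [map_mul, ha, hb]
        one_mem' := map_one _
        inv_mem' := fun {a} ha => by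
          simp only [Set.mem_setOf_eq] at ha ⊢
          rw [map_inv, ha] }
    have hinvK : ∀ g ∈ P, ∀ v ∈ K, ρ g v ∈ K := fun g hg v hv => by
      show ρ (φ x) (ρ g v) = ρ g v
      rw [← app_mul, ← hcz.2 g hg, app_mul, show ρ (φ x) v = v from hv]
    refine h.pair huI hx hx1 hux K (hinvK u huI.1) (hinvK x hx.1) (fun a ha => ?_) v hv
    have hc := hinvK u huI.1 _ (hinvK x hx.1 a ha)
    rw [← app_mul (ρ := ρ) x u, show x * u = φ x * (u * x) by simp only [hφ]; group, app_mul, app_mul]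
    exact hc.symm
  -- the values lie in a subgroup of order three
  obtain ⟨p₀, hp₀, hp₀1⟩ : ∃ p ∈ P, φ p ≠ 1 := by
    by_contra hc
    push Not at hc
    exact hu1 (hnz u huI ⟨huI.1, fun p hp => φeq p (hc p hp)⟩)
  obtain ⟨x₀, hx₀, hx₀e⟩ := φval p₀ hp₀
  have hz1 : φ x₀ ≠ 1 := by rw [hx₀e]; exact hp₀1
  have hrange : ∀ p ∈ P, φ p ∈ Subgroup.zpowers (φ x₀) := by
    intro p hp
    by_contra hpz
    refine hu1 (h.faith u huI.1 (MulEquiv.ext fun v => ?_))
    have hxp : φ (x₀ * p) = φ x₀ * φ p := φmul _ hx₀.1 _ hp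
    have hxpp : φ (x₀ * (p * p)) = φ x₀ * (φ p * φ p) := by
      rw [φmul _ hx₀.1 _ (mul_mem hp hp), φmul _ hp _ hp]
    have hp3 := φcube p hp
    have n1 : φ p ≠ 1 := fun e => hpz (e ▸ one_mem _)
    have n2 : φ (x₀ * p) ≠ 1 := fun e => hpz (by
      rw [hxp] at e
      rw [← inv_eq_of_mul_eq_one_right e]
      exact inv_mem (Subgroup.mem_zpowers _))
    have n3 : φ (x₀ * (p * p)) ≠ 1 := fun e => hpz (by
      rw [hxpp] at e
      have e' := inv_eq_of_mul_eq_one_right e
      rw [show φ p = ((φ p) * (φ p))⁻¹ from (inv_eq_of_mul_eq_one_right (by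
        rw [← pow_two, ← pow_succ, hp3])).symm, ← e', inv_inv]
      exact Subgroup.mem_zpowers _)
    let X : W →* W := (ρ (φ x₀)).toMonoidHom
    let U : W →* W := (ρ (φ p)).toMonoidHom
    have hcc : φ x₀ * φ p = φ p * φ x₀ := (φZ p hp).2 _ (φZ _ hx₀.1).1
    refine nine h.exp_two X U (fun v => ?_) (fun v => h.app_cube (φcube _ hx₀.1) v)
      (fun v => h.app_cube hp3 v) (fun v => ρ u v = v) (fun a b ha hb => by rw [map_mul, ha, hb])
      (hfix x₀ hx₀.1 hz1) (hfix p hp n1) (fun v e => hfix _ (mul_mem hx₀.1 (mul_mem hp hp)) n3 v ?_)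
      (fun v e => hfix _ (mul_mem hx₀.1 hp) n2 v ?_) v
    · show ρ (φ x₀) (ρ (φ p) v) = ρ (φ p) (ρ (φ x₀) v)
      rw [← app_mul, ← app_mul, hcc]
    · rw [hxpp, ← mul_assoc, hcc, mul_assoc, hcc, app_mul, app_mul]
      exact e
    · rw [hxp, hcc, app_mul]
      exact e
  -- `P` is generated by `x₀` and `u`
  set S := Subgroup.closure ({x₀, u} : Set B) with hS
  have hxS : x₀ ∈ S := Subgroup.subset_closure (by simp)
  have huS : u ∈ S := Subgroup.subset_closure (by simp)
  have huS' : Subgroup.zpowers u ≤ S := Subgroup.zpowers_le.2 huS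
  have hzS : φ x₀ ∈ S := (hφ x₀).symm ▸ mul_mem (mul_mem (mul_mem hxS huS) (inv_mem hxS)) (inv_mem huS)
  have hPS : P ≤ S := h.gen_le fun y hy => by
    by_cases hy0 : φ y = 1
    · exact huS' (h.commuting hy huI hu1 (φeq y hy0))
    obtain ⟨x, hx, hxy, hxS'⟩ : ∃ x, Inverted P d x ∧ φ x = φ y ∧ x ∈ S := by
      rcases eq_of_cube (φcube _ hx₀.1) (hrange y hy.1) with e | e | e
      · exact absurd e hy0
      · exact ⟨x₀, hx₀, e.symm, hxS⟩
      · exact ⟨x₀⁻¹, ⟨inv_mem hx₀.1, by rw [map_inv, hx₀.2]⟩, by rw [φinv _ hx₀.1, e], inv_mem hxS⟩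
    obtain ⟨g, hg_def⟩ : ∃ g, g = x⁻¹ * y := ⟨_, rfl⟩
    have hgP : g ∈ P := hg_def ▸ mul_mem (inv_mem hx.1) hy.1
    have hg : φ g = 1 := by rw [hg_def, φmul _ (inv_mem hx.1) _ hy.1, φinv _ hx.1, hxy, inv_mul_cancel]
    obtain ⟨t, ht_def⟩ : ∃ t, t = g⁻¹ * MulAut.conj d g := ⟨_, rfl⟩
    have htI : Inverted P d t := ht_def ▸ h.inverted_conj hgP
    have htu : t ∈ Subgroup.zpowers u := h.commuting htI huI hu1 (φeq t (by
      rw [ht_def, φmul _ (inv_mem hgP) _ (h.conj_mem hgP), φconj _ hgP, φinv _ hgP, hg]; simp))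
    have ht3 := h.inverted_cube htI
    obtain ⟨c, hc_def⟩ : ∃ c, c = g * t⁻¹ := ⟨_, rfl⟩
    have hcP : c ∈ P := hc_def ▸ mul_mem hgP (inv_mem htI.1)
    have hct : c * t = t * c := by
      have hgt : Commute g t := by
        obtain ⟨n, hn⟩ := Subgroup.mem_zpowers_iff.1 htu
        rw [← hn]
        exact Commute.zpow_right (φeq g hg) n
      rw [hc_def]
      exact (hgt.mul_left (Commute.inv_left (Commute.refl t))).eq
    have hdc : MulAut.conj d c = c := by
      rw [hc_def, map_mul, map_inv, htI.2, inv_inv, show MulAut.conj d g = g * t by rw [ht_def]; group]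
      rw [pow_succ', pow_two] at ht3
      rw [mul_assoc, show t * t = t⁻¹ from (inv_eq_of_mul_eq_one_right ht3).symm]
    have hy_eq : y = x * c * t := by rw [hc_def, hg_def]; group
    -- `x` conjugates `c` to `c⁻¹` times a central element
    obtain ⟨η, hη_def⟩ : ∃ η, η = t⁻¹ * x⁻¹ * t * x := ⟨_, rfl⟩
    have hη : η ∈ Subgroup.zpowers (φ x₀) := by
      have hxm := hrange _ (inv_mem hx.1)
      have h1 := φdef x⁻¹
      rw [inv_inv] at h1
      have hcz := φZ _ (inv_mem hx.1)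
      rcases eq_of_cube hu3 htu with e | e | e
      · rw [hη_def, e]; simpa using one_mem _
      · rw [hη_def, e, mul_assoc, mul_assoc, ← mul_assoc x⁻¹, h1, ← hcz.2 u huI.1, inv_mul_cancel_left]
        exact hxm
      · rw [hη_def, e, inv_inv, mul_assoc, mul_assoc,
          show x⁻¹ * (u⁻¹ * x) = (x⁻¹ * u * x)⁻¹ by group, h1, mul_inv_rev, mul_inv_cancel_left]
        exact inv_mem hxm
    have hηZ : Central P η := by
      rcases eq_of_cube (φcube _ hx₀.1) hη with e | e | e <;> rw [e]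
      · exact ⟨one_mem _, fun p _ => by simp⟩
      · exact φZ _ hx₀.1
      · exact central_inv (φZ _ hx₀.1)
    have e1 : x⁻¹ * c * x = c⁻¹ * η := by
      have h1 := hy.2
      rw [hy_eq, map_mul, map_mul, hx.2, hdc, htI.2] at h1
      have hct' : c⁻¹ * t⁻¹ = t⁻¹ * c⁻¹ := by rw [← mul_inv_rev, ← mul_inv_rev, hct]
      calc x⁻¹ * c * x = x⁻¹ * c * t⁻¹ * (t * x) := by group
        _ = (x * c * t)⁻¹ * (t * x) := by rw [h1]
        _ = t⁻¹ * c⁻¹ * (x⁻¹ * t * x) := by group
        _ = c⁻¹ * η := by rw [← hct', hη_def]; group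
    have e2 : x * c * x⁻¹ = c⁻¹ * η := by
      have := congrArg (MulAut.conj d) e1
      rwa [map_mul, map_mul, map_mul, map_inv, map_inv, hx.2, hdc, hdz η hηZ, inv_inv] at this
    have hcx : c * x = x * c := by
      have h1 : Commute (x * x) c := by
        show x * x * c = c * (x * x)
        calc x * x * c = x * (x * c * x⁻¹) * x := by group
          _ = x * (x⁻¹ * c * x) * x := by rw [e1, e2]
          _ = c * (x * x) := by group
      have hx3 := h.inverted_cube hx
      have : x = (x * x) * (x * x) := by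
        rw [show (x * x) * (x * x) = x ^ 3 * x by rw [pow_succ, pow_two]; group, hx3, one_mul]
      rw [this]
      exact (h1.mul_left h1).eq.symm
    have hc2 : c * c = η := by
      rw [mul_assoc x⁻¹ c x, hcx, inv_mul_cancel_left] at e1
      calc c * c = c * (c⁻¹ * η) := by rw [← e1]
        _ = η := mul_inv_cancel_left c η
    obtain ⟨n, hn⟩ := IsPGroup.iff_orderOf.1 h.isP3 ⟨c, hcP⟩
    rw [Subgroup.orderOf_mk] at hn
    have hcS : c ∈ S := by
      have hodd : Odd (orderOf c) := hn ▸ Odd.pow (by decide)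
      obtain ⟨m, hm⟩ := hodd
      have e3 : c = η ^ (m + 1) := by
        rw [← hc2, ← pow_two, ← pow_mul, show 2 * (m + 1) = orderOf c + 1 by omega, pow_add,
          pow_orderOf_eq_one, one_mul, pow_one]
      rw [e3]
      exact pow_mem (Subgroup.zpowers_le.2 hzS hη) _
    rw [hy_eq]
    exact mul_mem (mul_mem hxS' hcS) (huS' htu)
  refine ⟨d, x₀ * d, u * d, h.sq, (h.mul_d hx₀).1, (h.mul_d huI).1,
    h.cube _ _ h.dP (h.mul_d hx₀).2 h.sq (h.mul_d hx₀).1,
    h.cube _ _ (h.mul_d hx₀).2 (h.mul_d huI).2 (h.mul_d hx₀).1 (h.mul_d huI).1,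
    h.cube _ _ h.dP (h.mul_d huI).2 h.sq (h.mul_d huI).1, ?_, ?_, ?_⟩
  · obtain ⟨hb, hbP⟩ := h.mul_d hx₀
    obtain ⟨hc, hcP⟩ := h.mul_d huI
    have hbi : (x₀ * d)⁻¹ = x₀ * d := inv_eq_of_mul_eq_one_right hb
    refine h.cube _ _ h.dP (fun hm => hcP ?_) h.sq ?_
    · have := h.normal.conj_mem _ hm (x₀ * d)
      rwa [show x₀ * d * (x₀ * d * (u * d) * (x₀ * d)) * (x₀ * d)⁻¹ = x₀ * d * (x₀ * d) * (u * d) by group,
        hb, one_mul] at this
    · calc x₀ * d * (u * d) * (x₀ * d) * (x₀ * d * (u * d) * (x₀ * d))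
          = x₀ * d * (u * d) * ((x₀ * d) * (x₀ * d)) * (u * d) * (x₀ * d) := by group
        _ = x₀ * d * ((u * d) * (u * d)) * (x₀ * d) := by rw [hb]; group
        _ = 1 := by rw [hc, mul_one, hb]
  · rw [eq_top_iff]
    intro y _
    have hd : d ∈ Subgroup.closure ({d, x₀ * d, u * d} : Set B) := Subgroup.subset_closure (by simp)
    have hback : ∀ z, z * d ∈ Subgroup.closure ({d, x₀ * d, u * d} : Set B) →
        z ∈ Subgroup.closure ({d, x₀ * d, u * d} : Set B) := fun z hz => by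
      have := mul_mem hz hd
      rwa [mul_assoc z d d, h.sq, mul_one] at this
    have hle : S ≤ Subgroup.closure ({d, x₀ * d, u * d} : Set B) := (Subgroup.closure_le _).2 (by
      rintro z (rfl | rfl) <;> exact hback _ (Subgroup.subset_closure (by simp)))
    rcases h.cover y with hy | hy
    · exact hle (hPS hy)
    · exact hback _ (hle (hPS hy))
  · obtain ⟨n, hn⟩ := IsPGroup.iff_card.1 h.isP3
    have h3 : 3 ≤ n := by
      by_contra h3
      have hcomm : ∀ a b : P, a * b = b * a := by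
        interval_cases n
        · haveI := (Nat.card_eq_one_iff_unique.1 hn).1
          exact fun a b => Subsingleton.elim _ _
        · haveI := isCyclic_of_prime_card (p := 3) (by simpa using hn)
          letI := IsCyclic.commGroup (α := P)
          exact fun a b => mul_comm a b
        · exact IsPGroup.commutative_of_card_eq_prime_sq hn
      exact hp₀1 (by
        have := congrArg Subtype.val (hcomm ⟨p₀, hp₀⟩ ⟨u, huI.1⟩)
        simp only [Subgroup.coe_mul] at this
        simp only [hφ]; rw [this]; group)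
    have h27 : 27 ≤ 3 ^ n := le_trans (by norm_num) (Nat.pow_le_pow_right (by norm_num) h3)
    have := Subgroup.card_mul_index P
    rw [hn, h.index_two] at this
    omega

/-- The dichotomy. -/
theorem classify [Finite B] (h : Setup P ρ d) :
    Nonempty (B ≃* Equiv.Perm (Fin 3)) ∨
    ∃ a b c : B, a * a = 1 ∧ b * b = 1 ∧ c * c = 1 ∧ (a * b) ^ 3 = 1 ∧ (b * c) ^ 3 = 1 ∧ (a * c) ^ 3 = 1 ∧
      (a * (b * c * b)) ^ 3 = 1 ∧ Subgroup.closure ({a, b, c} : Set B) = ⊤ ∧ 54 ≤ Nat.card B := by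
  by_cases hz : ∃ u, Inverted P d u ∧ Central P u ∧ u ≠ 1
  · obtain ⟨u, hu, hzu, hu1⟩ := hz
    exact Or.inl (symmetric_case h hu hu1 hzu)
  · push Not at hz
    exact Or.inr (hall_case h hz)

end CfsgLib.Invol.TriTwoThree
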