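/-
A group generated by 3-transpositions with self-centralising `O₂` whose quotient is a 3-group extended
by a 2-group: the quotient is `S₃` or the derived group of `SU(3,2)`.
-/
import Cfsg.Agent.Lib.Invol.TriTwoThree.Module
import Cfsg.Agent.Lib.Invol.TriTwoThree.Model
import Cfsg.Agent.Lib.Coprime.Action
import Cfsg.Agent.Lib.Coprime.Core
import Cfsg.Agent.Lib.Coprime.Component
import Cfsg.Agent.Lib.Coprime.PGroupFrattini
import Cfsg.Prelude.Def_SporadicB

set_option autoImplicit false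

namespace CfsgLib.Invol.TriTwoThree

open Setup

/-- A 2-group generated by the conjugates of one element is generated by that element. -/
theorem zpowers_eq_top_of_conjugates {C : Type*} [Group C] [Finite C] (hC : IsPGroup 2 C) {x : C}
    (hgen : Subgroup.closure (conjugatesOf x) = ⊤) : Subgroup.zpowers x = ⊤ := by
  haveI : Fact (Nat.Prime 2) := ⟨Nat.prime_two⟩
  refine frattini_nongenerating (eq_top_iff.2 (hgen ▸ (Subgroup.closure_le _).2 fun y hy => ?_))
  obtain ⟨g, rfl⟩ := isConj_iff.1 hy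
  rw [show g * x * g⁻¹ = x * (x⁻¹ * g * x * g⁻¹) by group]
  refine Subgroup.mul_mem_sup (Subgroup.mem_zpowers x) (CfsgLib.Coprime.commutator_le_frattini hC ?_)
  have := Subgroup.commutator_mem_commutator (Subgroup.mem_top x⁻¹) (Subgroup.mem_top g)
  rw [commutatorElement_def, inv_inv] at this
  exact this

variable {K : Type*} [Group K]

/-- Automorphisms act on the Frattini quotient. -/
noncomputable def frattiniAction : MulAut K →* MulAut (K ⧸ frattini K) :=
  MonoidHom.mk' (fun f => QuotientGroup.congr (frattini K) (frattini K) f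
    (Subgroup.characteristic_iff_map_eq.1 inferInstance f))
    fun f f' => MulEquiv.ext fun w => by
      induction w using QuotientGroup.induction_on with
      | H k => rfl

theorem frattiniAction_mk (f : MulAut K) (k : K) :
    frattiniAction f (QuotientGroup.mk k) = QuotientGroup.mk (f k) := rfl

theorem quotient_exp_two [Finite K] (hK : IsPGroup 2 K) (w : K ⧸ frattini K) : w * w = 1 := by
  haveI : Fact (Nat.Prime 2) := ⟨Nat.prime_two⟩
  induction w using QuotientGroup.induction_on with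
  | H k => rw [← QuotientGroup.mk_mul, QuotientGroup.eq_one_iff, ← pow_two]
           exact CfsgLib.Coprime.pow_mem_frattini hK k

variable {H : Type*} [Group H] [Finite H]

theorem classify_quotient {E : Set H} (hE : Cfsg.IsThreeTranspositionClass E)
    (hE2 : ∃ a ∈ E, ∃ b ∈ E, a ≠ b) (Q : Subgroup H) [Q.Normal] (hQ : IsPGroup 2 Q)
    (hC : Subgroup.centralizer (Q : Set H) ≤ Q) (hO : Cfsg.pCore 2 (H ⧸ Q) = ⊥)
    (P : Sylow 3 (H ⧸ Q)) (hPn : (P : Subgroup (H ⧸ Q)).Normal) (hPi : ∃ k : ℕ, (P : Subgroup (H ⧸ Q)).index = 2 ^ k) :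
    Nonempty (H ⧸ Q ≃* Equiv.Perm (Fin 3)) ∨
    ∃ a b c : H ⧸ Q, a * a = 1 ∧ b * b = 1 ∧ c * c = 1 ∧ (a * b) ^ 3 = 1 ∧ (b * c) ^ 3 = 1 ∧ (a * c) ^ 3 = 1 ∧
      (a * (b * c * b)) ^ 3 = 1 ∧ Subgroup.closure ({a, b, c} : Set (H ⧸ Q)) = ⊤ ∧ 54 ≤ Nat.card (H ⧸ Q) := by
  haveI : Fact (Nat.Prime 2) := ⟨Nat.prime_two⟩
  haveI : Fact (Nat.Prime 3) := ⟨Nat.prime_three⟩
  obtain ⟨⟨hord, h23⟩, ⟨d₀, hd₀, hEeq⟩, hgen⟩ := hE
  have hsq : ∀ a ∈ E, a * a = 1 := fun a ha => by rw [← pow_two, ← hord a ha, pow_orderOf_eq_one]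
  have hconj : ∀ g : H, ∀ a ∈ E, g * a * g⁻¹ ∈ E := fun g a ha => by
    rw [hEeq] at ha ⊢; exact IsConj.trans ha (isConj_iff.2 ⟨g, rfl⟩)
  set π := QuotientGroup.mk' Q with hπ
  set P' : Subgroup (H ⧸ Q) := P.toSubgroup with hP'
  haveI : P'.Normal := hPn
  have hP3 : IsPGroup 3 P' := P.isPGroup'
  set d := π d₀ with hd_def
  have hd2 : d * d = 1 := by rw [hd_def, ← map_mul, hsq d₀ hd₀, map_one]
  have hBgen : ∀ S : Subgroup (H ⧸ Q), (∀ g, g * d * g⁻¹ ∈ S) → S = ⊤ := fun S hS => by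
    rw [eq_top_iff, ← Subgroup.map_top_of_surjective π (QuotientGroup.mk'_surjective Q), ← hgen,
      MonoidHom.map_closure, Subgroup.closure_le]
    rintro _ ⟨a, ha, rfl⟩
    rw [hEeq] at ha
    obtain ⟨g, rfl⟩ := isConj_iff.1 ha
    rw [map_mul, map_mul, map_inv]
    exact hS (π g)
  -- the quotient by `P` is generated by the image of `d`
  have hcover : ∀ x, x ∈ P' ∨ x * d ∈ P' := by
    obtain ⟨k, hk⟩ := hPi
    have h2 : IsPGroup 2 ((H ⧸ Q) ⧸ P') := IsPGroup.of_card (n := k) hk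
    set σ := QuotientGroup.mk' P' with hσ
    have htop : Subgroup.closure (conjugatesOf (σ d)) = ⊤ := by
      have h1 := hBgen ((Subgroup.closure (conjugatesOf (σ d))).comap σ) fun g =>
        Subgroup.subset_closure (isConj_iff.2 ⟨σ g, by rw [map_mul, map_mul, map_inv]⟩)
      rw [eq_top_iff]
      intro y _
      obtain ⟨x, rfl⟩ := QuotientGroup.mk'_surjective P' y
      exact (show x ∈ (Subgroup.closure (conjugatesOf (σ d))).comap σ from h1 ▸ Subgroup.mem_top x)
    intro x
    obtain ⟨n, hn⟩ := Subgroup.mem_zpowers_iff.1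
      (zpowers_eq_top_of_conjugates h2 htop ▸ Subgroup.mem_top (σ x))
    have h22 : σ d ^ (2 : ℤ) = 1 := by
      rw [show (2 : ℤ) = ((2 : ℕ) : ℤ) from rfl, zpow_natCast, pow_two, ← map_mul, hd2, map_one]
    rw [zpow_eq_zpow_emod n h22] at hn
    rcases Int.emod_two_eq_zero_or_one n with e | e <;> rw [e] at hn
    · exact Or.inl ((QuotientGroup.eq_one_iff x).1 (by rw [zpow_zero] at hn; exact hn.symm))
    · refine Or.inr ((QuotientGroup.eq_one_iff _).1 ?_)
      rw [zpow_one] at hn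
      show σ (x * d) = 1
      rw [map_mul, ← hn, ← map_mul, hd2, map_one]
  have hodd : ∀ p ∈ P', p * p = 1 → p = 1 := fun p hp hpp => by
    obtain ⟨n, hn⟩ := IsPGroup.iff_orderOf.1 hP3 ⟨p, hp⟩
    rw [Subgroup.orderOf_mk] at hn
    have h1 : orderOf p ∣ Nat.gcd (3 ^ n) 2 :=
      Nat.dvd_gcd (dvd_of_eq hn) (orderOf_dvd_of_pow_eq_one (by rw [pow_two, hpp]))
    rw [Nat.Coprime.pow_left n (by norm_num : Nat.Coprime 3 2)] at h1
    exact orderOf_eq_one_iff.1 (Nat.dvd_one.1 h1)
  have hd1 : d ≠ 1 := by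
    intro h
    have hQtop : Q = ⊤ := by
      rw [eq_top_iff, ← hgen, Subgroup.closure_le]
      intro a ha
      rw [hEeq] at ha
      obtain ⟨g, rfl⟩ := isConj_iff.1 ha
      exact Subgroup.Normal.conj_mem inferInstance d₀ ((QuotientGroup.eq_one_iff d₀).1 h) g
    have hH : IsPGroup 2 H := fun x => by
      obtain ⟨k, hk⟩ := hQ ⟨x, hQtop ▸ Subgroup.mem_top x⟩
      exact ⟨k, congrArg Subtype.val hk⟩
    have hz := zpowers_eq_top_of_conjugates hH (hEeq ▸ hgen)
    have heq : ∀ a ∈ E, a = d₀ := fun a ha => by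
      rw [hEeq] at ha
      obtain ⟨g, rfl⟩ := isConj_iff.1 ha
      obtain ⟨n, hn⟩ := Subgroup.mem_zpowers_iff.1 (hz ▸ Subgroup.mem_top g)
      rw [← hn, (Commute.zpow_self d₀ n).eq, mul_inv_cancel_right]
    obtain ⟨a, ha, b, hb, hab⟩ := hE2
    exact hab ((heq a ha).trans (heq b hb).symm)
  have hdP : d ∉ P' := fun h => hd1 (hodd d h hd2)
  have hne : P' ≠ ⊥ := by
    intro h
    have hB2 : IsPGroup 2 (H ⧸ Q) := fun x => ⟨1, by
      rcases hcover x with hx | hx <;> rw [h, Subgroup.mem_bot] at hx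
      · rw [hx, one_pow]
      · rw [pow_one, pow_two, eq_inv_of_mul_eq_one_left hx, ← mul_inv_rev, hd2, inv_one]⟩
    have h2 := CfsgLib.Coprime.le_pCore (N := (⊤ : Subgroup (H ⧸ Q))) (hB2.of_equiv Subgroup.topEquiv.symm)
    rw [hO, le_bot_iff] at h2
    exact hd1 (Subgroup.mem_bot.1 (h2 ▸ Subgroup.mem_top d))
  have hdi : d⁻¹ = d := inv_eq_of_mul_eq_one_right hd2
  have hPP : ∀ x y, x ∉ P' → y ∉ P' → x * y ∈ P' := fun x y hx hy => by
    have h1 := (hcover x).resolve_left hx
    have h2 := hPn.conj_mem _ ((hcover y).resolve_left hy) d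
    rw [hdi] at h2
    have := mul_mem h1 h2
    rwa [show x * d * (d * (y * d) * d) = x * (d * d) * y * (d * d) by group, hd2, mul_one, mul_one] at this
  -- involutions outside `P`
  have hlift : ∀ e, e * e = 1 → e ∉ P' → ∃ a ∈ E, π a = e := by
    intro e he heP
    have hx : e * d ∈ P' := hPP e d heP hdP
    obtain ⟨n, hn⟩ := IsPGroup.iff_orderOf.1 hP3 ⟨e * d, hx⟩
    rw [Subgroup.orderOf_mk] at hn
    obtain ⟨j, hj⟩ : Odd (orderOf (e * d)) := hn ▸ Odd.pow (by decide)
    have hei : e⁻¹ = e := inv_eq_of_mul_eq_one_right he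
    have hinv : d * ((e * d) ^ (j + 1))⁻¹ * d = (e * d) ^ (j + 1) := by
      have h1 : MulAut.conj d (e * d) = (e * d)⁻¹ := by
        rw [MulAut.conj_apply, mul_inv_rev, hdi, hei, mul_assoc, mul_assoc, hd2, mul_one]
      have h2 := map_pow (MulAut.conj d) (e * d) (j + 1)
      rw [h1, inv_pow] at h2
      have h3 := congrArg (fun z => z⁻¹) h2
      simp only [MulAut.conj_apply, inv_inv, mul_inv_rev, hdi, ← mul_assoc] at h3
      exact h3
    obtain ⟨g, hg⟩ := QuotientGroup.mk'_surjective Q ((e * d) ^ (j + 1))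
    refine ⟨g * d₀ * g⁻¹, hconj g d₀ hd₀, ?_⟩
    rw [map_mul, map_mul, map_inv, hg, ← hd_def]
    calc (e * d) ^ (j + 1) * d * ((e * d) ^ (j + 1))⁻¹
        = (e * d) ^ (j + 1) * (d * ((e * d) ^ (j + 1))⁻¹ * d) * d⁻¹ := by group
      _ = (e * d) ^ (orderOf (e * d) + 1) * d⁻¹ := by rw [hinv, ← pow_add]; congr 2; omega
      _ = e := by rw [pow_succ, pow_orderOf_eq_one, one_mul, mul_inv_cancel_right]
  have hcube : ∀ e f, e ∉ P' → f ∉ P' → e * e = 1 → f * f = 1 → (e * f) ^ 3 = 1 := by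
    intro e f he hf he2 hf2
    obtain ⟨a, ha, rfl⟩ := hlift e he2 he
    obtain ⟨b, hb, rfl⟩ := hlift f hf2 hf
    rcases h23 a ha b hb with h | h
    · rw [hodd _ (hPP _ _ he hf) (by rw [← map_mul, ← map_mul, ← pow_two, h, map_one]), one_pow]
    · rw [← map_mul, ← map_pow, h, map_one]
  -- the module
  letI : CommGroup (↥Q ⧸ frattini ↥Q) :=
    { (inferInstance : Group (↥Q ⧸ frattini ↥Q)) with
      mul_comm := fun x y => by
        have hi : ∀ w : ↥Q ⧸ frattini ↥Q, w⁻¹ = w := fun w => inv_eq_of_mul_eq_one_right (quotient_exp_two hQ w)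
        calc x * y = (x * y)⁻¹ := (hi _).symm
          _ = y * x := by rw [mul_inv_rev, hi, hi] }
  let act : H →* MulAut (↥Q ⧸ frattini ↥Q) := frattiniAction.comp MulAut.conjNormal
  have hact : Q ≤ act.ker := fun q hq => MulEquiv.ext fun w => by
    induction w using QuotientGroup.induction_on with
    | H k =>
      show QuotientGroup.mk (MulAut.conjNormal q k) = QuotientGroup.mk k
      rw [show MulAut.conjNormal q k = (⟨q, hq⟩ : Q) * k * (⟨q, hq⟩ : Q)⁻¹ from
        Subtype.ext (by rw [MulAut.conjNormal_apply]; rfl)]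
      rw [QuotientGroup.mk_mul, QuotientGroup.mk_mul, QuotientGroup.mk_inv, mul_comm (QuotientGroup.mk _),
        mul_inv_cancel_right]
  let ρ : H ⧸ Q →* MulAut (↥Q ⧸ frattini ↥Q) := QuotientGroup.lift Q act hact
  have hρ : ∀ h k, ρ (π h) (QuotientGroup.mk k) = QuotientGroup.mk (MulAut.conjNormal h k) := fun h k => rfl
  have hfaith : ∀ p ∈ P', ρ p = 1 → p = 1 := by
    intro p hp hρp
    obtain ⟨h, rfl⟩ := QuotientGroup.mk'_surjective Q p
    by_contra hne1
    obtain ⟨s, r, hr, hsr⟩ := Nat.exists_eq_two_pow_mul_odd (orderOf_pos h).ne'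
    have hrpow : (h ^ 2 ^ s) ^ r = 1 := by rw [← pow_mul, ← hsr, pow_orderOf_eq_one]
    have hA : h ^ 2 ^ s ∈ Q := by
      refine hC (CfsgLib.Coprime.le_centralizer_of_trivial_on_frattini_quotient
        (A := Subgroup.zpowers (h ^ 2 ^ s)) (K := Q) ?_ ?_ ?_ (Subgroup.mem_zpowers _))
      · rw [Subgroup.normalizer_eq_top]; exact le_top
      · rw [Nat.card_zpowers]
        obtain ⟨n, hn⟩ := IsPGroup.iff_card.1 (hQ.to_subgroup (frattini ↥Q))
        rw [hn]
        exact (Nat.Coprime.coprime_dvd_left (orderOf_dvd_of_pow_eq_one hrpow)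
          ((Nat.coprime_two_right.2 hr).pow_right n))
      · intro a ha k hk
        obtain ⟨m, rfl⟩ := Subgroup.mem_zpowers_iff.1 ha
        set a := (h ^ 2 ^ s) ^ m
        have hone : ρ (π a) = 1 := by
          rw [map_zpow, map_zpow, map_pow, map_pow, hρp, one_pow, one_zpow]
        have h1 := hρ a ⟨k, hk⟩
        rw [hone, MulAut.one_apply] at h1
        refine ⟨MulAut.conjNormal a ⟨k, hk⟩ * (⟨k, hk⟩ : Q)⁻¹, ?_, ?_⟩
        · rw [SetLike.mem_coe, ← QuotientGroup.eq_one_iff, QuotientGroup.mk_mul, QuotientGroup.mk_inv, ← h1,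
            mul_inv_cancel]
        · simp [MulAut.conjNormal_apply]
    have hp2 : π h ^ 2 ^ s = 1 := by rw [← map_pow]; exact (QuotientGroup.eq_one_iff _).2 hA
    obtain ⟨n, hn⟩ := IsPGroup.iff_orderOf.1 hP3 ⟨π h, hp⟩
    rw [Subgroup.orderOf_mk] at hn
    have h1 : orderOf (π h) ∣ Nat.gcd (3 ^ n) (2 ^ s) := Nat.dvd_gcd (dvd_of_eq hn) (orderOf_dvd_of_pow_eq_one hp2)
    rw [Nat.Coprime.pow n s (by norm_num : Nat.Coprime 3 2)] at h1
    exact hne1 (orderOf_eq_one_iff.1 (Nat.dvd_one.1 h1))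
  have hkey : ∀ e : H ⧸ Q, e * e = 1 → e ∉ P' → ∀ u ∈ P', u ≠ 1 → e * u * e = u⁻¹ →
      ∀ w, ρ u w = w → ρ e w = w := by
    intro e he heP u hu hu1 heu w hw
    have heu2 : e * u * (e * u) = 1 := by rw [← mul_assoc, heu, inv_mul_cancel]
    have heuP : e * u ∉ P' := fun hm => heP ((P'.mul_mem_cancel_right hu).1 hm)
    obtain ⟨a, ha, hπa⟩ := hlift e he heP
    obtain ⟨b, hb, hπb⟩ := hlift _ heu2 heuP
    induction w using QuotientGroup.induction_on with
    | H q =>
      have hy : π (a * b) = u := by rw [map_mul, hπa, hπb, ← mul_assoc, he, one_mul]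
      have hcb : ∀ a' ∈ E, π a' = e → (a' * b) ^ 3 = 1 := fun a' ha' he' =>
        (h23 a' ha' b hb).resolve_left fun h2 => hu1 (hodd u hu (by
          rw [← pow_two, show u = π a' * π b by rw [he', hπb, ← mul_assoc, he, one_mul], ← map_mul, ← map_pow,
            h2, map_one]))
      have hqa : π ((q : H) * a * (q : H)⁻¹) = e := by
        rw [map_mul, map_mul, map_inv, show π (q : H) = 1 from (QuotientGroup.eq_one_iff _).2 q.2, hπa]
        simp
      have h3 := hcb _ (hconj _ a ha) hqa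
      have hy3 := hcb a ha hπa
      set c : Q := q * MulAut.conjNormal a q⁻¹ with hc
      set y := a * b with hy_def
      have hprod : c * MulAut.conjNormal y c * MulAut.conjNormal y (MulAut.conjNormal y c) = 1 := by
        refine Subtype.ext ?_
        simp only [Subgroup.coe_mul, Subgroup.coe_one, MulAut.conjNormal_apply]
        have hcy : (c : H) * y = (q : H) * a * (q : H)⁻¹ * b := by
          simp only [hc, hy_def, Subgroup.coe_mul, Subgroup.coe_inv, MulAut.conjNormal_apply]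
          group
        have hyy : y ^ 3 = 1 := hy3
        calc (c : H) * (y * c * y⁻¹) * (y * (y * c * y⁻¹) * y⁻¹) = ((c : H) * y) ^ 3 * (y ^ 3)⁻¹ := by
              simp only [pow_succ, pow_zero, one_mul]; group
          _ = 1 := by rw [hcy, h3, hyy, inv_one, one_mul]
      set v : ↥Q ⧸ frattini ↥Q := QuotientGroup.mk q with hv
      have hcv : (QuotientGroup.mk c : ↥Q ⧸ frattini ↥Q) = v * (ρ e v)⁻¹ := by
        rw [hc, QuotientGroup.mk_mul, map_inv, QuotientGroup.mk_inv, ← hρ, hπa]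
      have hue : ρ u (ρ e v) = ρ e v := by
        have hui : ρ u⁻¹ v = v := by
          conv_lhs => rw [← hw]
          rw [← app_mul, inv_mul_cancel, app_one]
        have : u * e = e * u⁻¹ := by
          rw [← heu, ← mul_assoc, ← mul_assoc, he, one_mul]
        rw [← app_mul, this, app_mul, hui]
      have hfix : ρ u (QuotientGroup.mk c) = QuotientGroup.mk c := by
        rw [hcv, map_mul, map_inv, hw, hue]
      have h4 := congrArg (QuotientGroup.mk (s := frattini ↥Q)) hprod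
      have e1 : (QuotientGroup.mk (MulAut.conjNormal y c) : ↥Q ⧸ frattini ↥Q) = QuotientGroup.mk c :=
        (hρ y c).symm.trans ((congrArg (fun z => ρ z (QuotientGroup.mk c)) hy).trans hfix)
      have e2 : (QuotientGroup.mk (MulAut.conjNormal y (MulAut.conjNormal y c)) : ↥Q ⧸ frattini ↥Q) =
          QuotientGroup.mk c :=
        (hρ y _).symm.trans ((congrArg (fun z => ρ (π y) z) e1).trans ((hρ y c).trans e1))
      rw [QuotientGroup.mk_mul, QuotientGroup.mk_mul, QuotientGroup.mk_one, e2, e1, quotient_exp_two hQ, one_mul,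
        hcv, mul_inv_eq_one] at h4
      exact h4.symm
  -- generation by inverted elements
  set S := Subgroup.closure {x | x ∈ P' ∧ MulAut.conj d x = x⁻¹} with hS
  have hSP : S ≤ P' := (Subgroup.closure_le _).2 fun x hx => hx.1
  have hSd : ∀ x ∈ S, d * x * d ∈ S := fun x hx => by
    have h1 : S ≤ S.comap (MulAut.conj d).toMonoidHom := (Subgroup.closure_le _).2 fun z hz => by
      show MulAut.conj d z ∈ S
      rw [hz.2]; exact inv_mem (Subgroup.subset_closure hz)
    have := h1 hx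
    change MulAut.conj d x ∈ S at this
    rwa [MulAut.conj_apply, hdi] at this
  let T : Subgroup (H ⧸ Q) :=
    { carrier := {x | x ∈ S ∨ x * d ∈ S}
      one_mem' := Or.inl (one_mem _)
      mul_mem' := by
        rintro x y (hx | hx) (hy | hy)
        · exact Or.inl (mul_mem hx hy)
        · exact Or.inr (by rw [mul_assoc]; exact mul_mem hx hy)
        · refine Or.inr ?_
          have := mul_mem hx (hSd y hy)
          rwa [show x * d * (d * y * d) = x * (d * d) * y * d by group, hd2, mul_one] at this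
        · refine Or.inl ?_
          have := mul_mem hx (hSd _ hy)
          rwa [show x * d * (d * (y * d) * d) = x * (d * d) * y * (d * d) by group, hd2, mul_one, mul_one] at this
      inv_mem' := by
        rintro x (hx | hx)
        · exact Or.inl (inv_mem hx)
        · refine Or.inr ?_
          have := hSd _ (inv_mem hx)
          rwa [mul_inv_rev, hdi, ← mul_assoc d d, hd2, one_mul] at this }
  have hTtop := hBgen T fun g => by
    refine Or.inr (Subgroup.subset_closure ⟨hPP _ _ (fun hm => hdP ?_) hdP, ?_⟩)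
    · have := hPn.conj_mem _ hm g⁻¹
      rwa [show g⁻¹ * (g * d * g⁻¹) * g⁻¹⁻¹ = d by group] at this
    · rw [MulAut.conj_apply, mul_inv_rev, mul_inv_rev, mul_inv_rev, inv_inv, hdi,
        mul_assoc d (g * d * g⁻¹ * d) d, mul_assoc (g * d * g⁻¹) d d, hd2, mul_one, mul_assoc g d g⁻¹]
  have hgen' : P' ≤ S := fun p hp => by
    rcases (show p ∈ S ∨ p * d ∈ S from (hTtop ▸ Subgroup.mem_top p : p ∈ T)) with h | h
    · exact h
    · exact absurd ((P'.mul_mem_cancel_left hp).1 (hSP h)) hdP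
  exact classify (ρ := ρ) (d := d)
    { sq := hd2
      dP := hdP
      cover := hcover
      isP3 := hP3
      ne_bot := hne
      gen := hgen'
      cube := hcube
      exp_two := quotient_exp_two hQ
      faith := hfaith
      key := hkey }

/-- The theorem. -/
theorem quotient_equiv {E : Set H} (hE : Cfsg.IsThreeTranspositionClass E)
    (hE2 : ∃ a ∈ E, ∃ b ∈ E, a ≠ b) (hF : Cfsg.generalizedFittingSubgroup H = Cfsg.pCore 2 H)
    [(Cfsg.pCore 2 H).Normal]
    (P : Sylow 3 (H ⧸ Cfsg.pCore 2 H)) (hPn : (P : Subgroup (H ⧸ Cfsg.pCore 2 H)).Normal)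
    (hPi : ∃ k : ℕ, (P : Subgroup (H ⧸ Cfsg.pCore 2 H)).index = 2 ^ k) :
    Nonempty (H ⧸ Cfsg.pCore 2 H ≃* Equiv.Perm (Fin 3)) ∨
      ∃ (F : Type) (_ : Field F) (_ : Fintype F), Fintype.card F = 4 ∧
        Nonempty (H ⧸ Cfsg.pCore 2 H ≃* ↥(commutator ↥(Cfsg.SU 3 F 2))) := by
  haveI : Fact (Nat.Prime 2) := ⟨Nat.prime_two⟩
  have hC := CfsgLib.Coprime.centralizer_generalizedFitting_le (G := H)
  rw [hF] at hC
  rcases classify_quotient hE hE2 _ (CfsgLib.Coprime.pCore_isPGroup 2) hC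
    (CfsgLib.Coprime.pCore_quotient_eq_bot 2) P hPn hPi with h | ⟨a, b, c, ha, hb, hc, h1, h2, h3, h4, htop, hcard⟩
  · exact Or.inl h
  · haveI : Fintype (GaloisField 2 2) := Fintype.ofFinite _
    have h4F : Fintype.card (GaloisField 2 2) = 4 := by
      rw [← Nat.card_eq_fintype_card, GaloisField.card 2 2 two_ne_zero]; rfl
    exact Or.inr ⟨GaloisField 2 2, inferInstance, inferInstance, h4F,
      nonempty_equiv_derived h4F ha hb hc h1 h2 h3 h4 htop hcard⟩

end CfsgLib.Invol.TriTwoThree
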